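import Groth.Prelude.Def_KoszTw
import Groth.Agent.H11Ample.Extend
import Groth.Agent.H10Coh.FibreLift.MonoEpi
import Groth.Agent.H8Props.FinLocFree.Sheaf
import Mathlib

/-!
# The Koszul complex of a twisted module, in a frame of the invertible module
-/

set_option autoImplicit false
set_option linter.style.haveILetI false
set_option backward.isDefEq.respectTransparency false
set_option maxHeartbeats 1000000

universe u

open CategoryTheory CategoryTheory.Limits AlgebraicGeometry Opposite TopologicalSpace exteriorPower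

noncomputable section

namespace Groth.Agent.H26Kosz

open Groth.Agent.H11Ample (tm spow)

variable {X : Scheme.{u}} {F L : X.Modules}

theorem tprod_const_eq {U : X.Opens} (e : Γ(L, U)) (q : ℕ) : KoszTw.tprod L q U (fun _ => e) = spow e q := by
  induction q with
  | zero => rfl
  | succ q ih =>
    change H11Ample.tm (KoszTw.tprod L q U fun _ => e) e = H11Ample.tm _ _
    rw [ih]

variable {U : X.affineOpens} {e : Γ(L, U.1)}

theorem bijective_tm' {M : X.Modules} {V : X.Opens} {e : Γ(L, V)} (he : H11Tilde.IsGen L e) :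
    Function.Bijective fun m : Γ(M, V) => tm m e := by
  have h := H11Ample.bijective_tm (F := M) he (le_refl V)
  rwa [H10Coh.mres_self] at h

/-- `f ↦ f ⊗ e`. -/
def tw (F : X.Modules) {L : X.Modules} {U : X.Opens} {e : Γ(L, U)} (he : H11Tilde.IsGen L e) :
    Γ(F, U) ≃ₗ[Γ(X, U)] Γ(CohB1.tensorMod F L, U) :=
  LinearEquiv.ofBijective
    ({ toFun := fun f => tm f e
       map_add' := fun a b => H11Ample.tm_add_left a b e
       map_smul' := fun a b => H11Ample.tm_smul_left a b e } : Γ(F, U) →ₗ[Γ(X, U)] Γ(CohB1.tensorMod F L, U))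
    (bijective_tm' he)

theorem tw_apply (F : X.Modules) {L : X.Modules} {U : X.Opens} {e : Γ(L, U)} (he : H11Tilde.IsGen L e)
    (f : Γ(F, U)) : tw F he f = tm f e := rfl

variable {s : F ⟶ Coh.structureModule X} {t : CohB1.tensorMod F L ⟶ Coh.structureModule X}
  (C : KoszSh.Cx F s) (D : KoszSh.Cx (CohB1.tensorMod F L) t) (he : H11Tilde.IsGen L e)

/-- `f₁ ∧ ⋯ ∧ f_p ↦ (f₁ ⊗ e) ∧ ⋯ ∧ (f_p ⊗ e)`. -/
def Φ (p : ℕ) : Γ(C.K.X p, U.1) →ₗ[Γ(X, U.1)] Γ(D.K.X p, U.1) :=
  (D.loc p U).symm.toLinearMap.comp ((exteriorPower.map p (tw F he).toLinearMap).comp (C.loc p U).toLinearMap)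

theorem Φ_ιMulti (p : ℕ) (f : Fin p → Γ(F, U.1)) :
    Φ C D he p ((C.loc p U).symm (ιMulti _ p f)) = (D.loc p U).symm (ιMulti _ p fun i => tm (f i) e) := by
  simp only [Φ, LinearMap.comp_apply, LinearEquiv.coe_coe, LinearEquiv.apply_symm_apply,
    exteriorPower.map_apply_ιMulti]
  rfl

theorem Φ_bijective (p : ℕ) : Function.Bijective (Φ C D he p) := by
  refine (D.loc p U).symm.bijective.comp (Function.Bijective.comp
    (g := exteriorPower.map p (tw F he).toLinearMap) ?_ (C.loc p U).bijective)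
  refine Function.bijective_iff_has_inverse.2 ⟨exteriorPower.map p (tw F he).symm.toLinearMap, fun x => ?_, fun x => ?_⟩ <;>
    rw [← LinearMap.comp_apply, ← exteriorPower.map_comp] <;>
    simp

theorem span_gen (p : ℕ) :
    Submodule.span Γ(X, U.1) (Set.range fun f : Fin p → Γ(F, U.1) => (C.loc p U).symm (ιMulti _ p f)) = ⊤ := by
  rw [show (fun f : Fin p → Γ(F, U.1) => (C.loc p U).symm (ιMulti _ p f)) = (C.loc p U).symm ∘ ιMulti _ p from rfl,
    Set.range_comp, ← LinearEquiv.coe_coe, ← Submodule.map_span, exteriorPower.ιMulti_span, Submodule.map_top,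
    LinearEquiv.range]

variable (lam : Coh.structureModule X ⟶ L) {b : Γ(X, U.1)}
  (hb : lam.app U.1 (1 : Γ(X, U.1)) = b • e)

theorem app_eq_smul (r : Γ(X, U.1)) : lam.app U.1 r = r • lam.app U.1 (1 : Γ(X, U.1)) := by
  rw [← Scheme.Modules.Hom.app_smul]
  congr 1
  exact (mul_one r).symm

include he hb in
theorem secForm_eq (htri : KoszTw.TwistTriangle s lam t) (f : Γ(F, U.1)) :
    KoszSh.secForm s U.1 f = b * KoszSh.secForm t U.1 (tm f e) := by
  refine (he.bijective le_rfl).1 ?_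
  beta_reduce
  rw [H10Coh.mres_self, ← htri U.1 f e]
  change lam.app U.1 (KoszSh.secForm t U.1 (tm f e) : Γ(X, U.1)) = _
  rw [app_eq_smul, hb, smul_smul, mul_comm]

include he hb in
/-- The Koszul differential of `F` is `b` times that of `F ⊗ L`. -/
theorem Φ_d (htri : KoszTw.TwistTriangle s lam t) (p : ℕ) (y : Γ(C.K.X (p + 1), U.1)) :
    Φ C D he p ((C.K.d (p + 1) p).app U.1 y) = b • (D.K.d (p + 1) p).app U.1 (Φ C D he (p + 1) y) := by
  have hy : y ∈ Submodule.span Γ(X, U.1)
      (Set.range fun f : Fin (p + 1) → Γ(F, U.1) => (C.loc (p + 1) U).symm (ιMulti _ (p + 1) f)) := by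
    rw [span_gen]; trivial
  induction hy using Submodule.span_induction with
  | mem z hz =>
    obtain ⟨f, rfl⟩ := hz
    rw [C.rule, Φ_ιMulti, D.rule, KoszSh.dGen, KoszSh.dGen, map_sum, map_sum, map_sum, Finset.smul_sum]
    refine Finset.sum_congr rfl fun i _ => ?_
    rw [map_smul, map_smul, Φ_ιMulti, map_smul, smul_smul, secForm_eq he lam hb htri]
    congr 1
    ring
  | zero => simp
  | add a c _ _ ha hc => simp only [map_add, ha, hc, smul_add]
  | smul a c _ hc =>
    rw [Scheme.Modules.Hom.app_smul, map_smul, map_smul, Scheme.Modules.Hom.app_smul, hc, smul_comm]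

include he in
/-- The decomposition datum in a frame. -/
theorem iso_Φ (p : ℕ) (θ : KoszTw.CxDecData C D p) (y : Γ(C.K.X p, U.1)) :
    θ.iso.hom.app U.1 (Φ C D he p y) = tm y (spow e p) := by
  have hy : y ∈ Submodule.span Γ(X, U.1)
      (Set.range fun f : Fin p → Γ(F, U.1) => (C.loc p U).symm (ιMulti _ p f)) := by
    rw [span_gen]; trivial
  induction hy using Submodule.span_induction with
  | mem z hz =>
    obtain ⟨f, rfl⟩ := hz
    rw [Φ_ιMulti]
    refine (θ.rule U f fun _ => e).trans ?_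
    rw [tprod_const_eq]
    rfl
  | zero => rw [map_zero, map_zero]; exact ((tw _ (H11Ample.isGen_spow he p)).map_zero).symm
  | add a c _ _ ha hc =>
    rw [map_add, map_add, ha, hc]
    exact (H11Ample.tm_add_left a c _).symm
  | smul a c _ hc => rw [map_smul, Scheme.Modules.Hom.app_smul, hc, ← H11Ample.tm_smul_left]

/-- A morphism vanishing on small opens vanishes. -/
theorem eq_zero_of_local {A B : X.Modules} (φ : A ⟶ B)
    (h : ∀ (x : X) (W : X.Opens), x ∈ W → ∃ (V : X.Opens), V ≤ W ∧ x ∈ V ∧ ∀ z : Γ(A, V), φ.app V z = 0) : φ = 0 := by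
  refine Scheme.Modules.hom_ext _ _ fun W => ?_
  ext z
  refine H11Tilde.eq_of_locally _ _ fun x hx => ?_
  obtain ⟨V, hVW, hxV, hV⟩ := h x W hx
  refine ⟨V, hVW, hxV, ?_⟩
  rw [← H11Tilde.app_map_apply, hV]
  exact (map_zero _).symm

theorem exists_frame (hL : PicF.IsInvertible L) (x : X) (W : X.Opens) (hxW : x ∈ W) :
    ∃ (U : X.affineOpens) (_ : x ∈ U.1) (_ : U.1 ≤ W) (e : Γ(L, U.1)), H11Tilde.IsGen L e := by
  obtain ⟨V, e₀, hxV, he₀⟩ := H11Ample.exists_gen hL x
  obtain ⟨U, hU, hxU, hUle⟩ := exists_isAffineOpen_mem_and_subset (U := V ⊓ W) ⟨hxV, hxW⟩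
  exact ⟨⟨U, hU⟩, hxU, fun z hz => (hUle hz).2, _, he₀.res (show U ≤ V from fun z hz => (hUle hz).1)⟩

end Groth.Agent.H26Kosz
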